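import Groth.Agent.AbVar.K845.SumOf
import Groth.Agent.S0033
import Groth.Agent.S0927
import Groth.Agent.S0036
import Groth.Agent.Dcoh.DerSch
import Groth.Agent.Krr.H463.SpecField
import Groth.Agent.Krr.H497.Bridge
import Groth.Agent.VarietyA.LerayEuler2

/-!
# Pull back of the transform of an invertible module, one degree at a time

* `nonempty_main`: `φ^* R^i q_*(p^*L ⊗ P) ≅ L' ⊗ a^* R^i a_* L`, the module version of `K512.FMPull.nonempty_main`;
* `isPw_cohom`: over a field, if the cohomology of `L` is concentrated in degree `i` then `a^* R^i a_* L` is a sum of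
  `|χ(L)|` copies of the structure sheaf.
-/

set_option autoImplicit false
universe u

open CategoryTheory CategoryTheory.Limits AlgebraicGeometry

namespace K845.FMMod

open Groth.Agent K845.SumOf

theorem isPw_map {X Y : Scheme.{u}} (F : X.Modules ⥤ Y.Modules) [F.Additive] {M N : X.Modules} {s : ℕ}
    (h : IsPw M s N) : IsPw (F.obj M) s (F.obj N) := by
  have : PreservesBinaryBiproducts F := preservesBinaryBiproducts_of_preservesBiproducts F
  induction h with
  | zero h0 => exact IsPw.zero (F.map_isZero h0)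
  | succ h0 e0 ih => exact IsPw.succ ih (F.mapIso e0 ≪≫ F.mapBiprod _ _)

theorem isPw_congr {X : Scheme.{u}} {M M' N : X.Modules} (e : M ≅ M') {s : ℕ} (h : IsPw M s N) : IsPw M' s N := by
  induction h with
  | zero h0 => exact IsPw.zero h0
  | succ h0 e0 ih => exact IsPw.succ ih (e0 ≪≫ biprod.mapIso (Iso.refl _) e)

theorem isPw_freeMod (X : Scheme.{u}) (m : ℕ) : IsPw (Coh.structureModule X) m (FlatMod.freeMod X m) := by
  induction m with
  | zero => exact IsPw.zero (K848.FreeHp.isZero_freeMod_zero X)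
  | succ m ih =>
    obtain ⟨e⟩ := Dcoh.FinLocFree.nonempty_biprod_freeMod_iso X m 1
    obtain ⟨e1⟩ : Nonempty (FlatMod.freeMod X 1 ≅ Coh.structureModule X) := by
      exact ⟨(coproductUniqueIso _)⟩
    exact IsPw.succ ih (e.symm ≪≫ biprod.mapIso (Iso.refl _) e1)

/-- The pull back of a free module. -/
theorem isPw_pullback_free {X S : Scheme.{u}} (a : X ⟶ S) {N : S.Modules} {m : ℕ}
    (e : Nonempty (N ≅ FlatMod.freeMod S m)) :
    IsPw (Coh.structureModule X) m ((Scheme.Modules.pullback a).obj N) := by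
  obtain ⟨e⟩ := e
  have : (Scheme.Modules.pullback a).Additive :=
    (Scheme.Modules.pullbackPushforwardAdjunction a).left_adjoint_additive
  exact isPw_congr (K939.FlatDual.unitIso a) (isPw_map (Scheme.Modules.pullback a) ((isPw_freeMod S m).iso e))

theorem isPw_tensor {X : Scheme.{u}} (L' : X.Modules) {N : X.Modules} {m : ℕ}
    (h : IsPw (Coh.structureModule X) m N) : IsPw L' m (CohB1.tensorMod L' N) := by
  have h1 := isPw_map ((DCoh.tensorBi (X := X)).obj L') h
  rw [Fga.IntAdd.tensorBi_obj, Fga.IntAdd.tensorBi_obj] at h1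
  exact isPw_congr (Groth.Agent.Fga.TensorList.tensorUnit L') h1

/-- Higher direct images are invariant under automorphisms over the base. -/
theorem nonempty_rpush_iso {V X : Scheme.{u}} (q : V ⟶ X) [QuasiCompact q] [QuasiSeparated q] (T : V ⟶ V) [IsIso T]
    (w : T ≫ q = q) [HasInjectiveResolutions V.Modules] (N : V.Modules) [Coh.IsQCoh N] (i : ℕ) :
    Nonempty ((Coh.Rpush q i).obj N ≅ (Coh.Rpush q i).obj ((Scheme.Modules.pullback T).obj N)) := by
  obtain ⟨e⟩ := Groth.Agent.S0033.result q (𝟙 X) T q (IsPullback.of_horiz_isIso ⟨by rw [w, Category.comp_id]⟩) N i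
  exact ⟨(Scheme.Modules.pullbackId X).symm.app _ ≪≫ e⟩

theorem nonempty_main {X Y W V S : Scheme.{u}} {p : W ⟶ X} {q : W ⟶ Y} {p' q' : V ⟶ X} {φ : X ⟶ Y} {g : V ⟶ W}
    {a : X ⟶ S} [Flat φ] [Flat a] [QuasiCompact q] [QuasiSeparated q]
    [QuasiCompact a] [QuasiSeparated a]
    (sq : IsPullback g q' q φ) (w : g ≫ p = p') (sq' : IsPullback p' q' a a) (T : V ⟶ V) [IsIso T]
    (w1 : T ≫ q' = q') {P : W.Modules} (hP : PicF.IsInvertible P) {L L' : X.Modules}
    (hL : PicF.IsInvertible L) (hL' : PicF.IsInvertible L')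
    (e : CohB1.tensorMod ((Scheme.Modules.pullback p').obj L) ((Scheme.Modules.pullback g).obj P) ≅
      CohB1.tensorMod ((Scheme.Modules.pullback T).obj ((Scheme.Modules.pullback p').obj L))
        ((Scheme.Modules.pullback q').obj L'))
    [HasInjectiveResolutions W.Modules] [HasInjectiveResolutions X.Modules] (i : ℕ) :
    Nonempty ((Scheme.Modules.pullback φ).obj ((Coh.Rpush q i).obj
        (CohB1.tensorMod ((Scheme.Modules.pullback p).obj L) P)) ≅
      CohB1.tensorMod L' ((Scheme.Modules.pullback a).obj ((Coh.Rpush a i).obj L))) := by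
  have iV : HasInjectiveResolutions V.Modules := Dcoh.DerSch.hasInjectiveResolutions V
  have hpL := Fdesc.LocGen.isInvertible_pullback p hL
  have hpL' := Fdesc.LocGen.isInvertible_pullback p' hL
  have hq1 : Coh.IsQCoh (CohB1.tensorMod ((Scheme.Modules.pullback p).obj L) P) :=
    Ega2.QCohLocal.isQCoh_of_isInvertible (Fdesc.LocGen.isInvertible_tensorMod hpL hP)
  have hq2 : Coh.IsQCoh ((Scheme.Modules.pullback p').obj L) := Ega2.QCohLocal.isQCoh_of_isInvertible hpL'
  have hq3 : Coh.IsQCoh L := Ega2.QCohLocal.isQCoh_of_isInvertible hL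
  have iq : QuasiCompact q' := MorphismProperty.of_isPullback sq inferInstance
  have iq' : QuasiSeparated q' := MorphismProperty.of_isPullback sq inferInstance
  obtain ⟨b1⟩ := Groth.Agent.S0033.result q φ g q' sq (CohB1.tensorMod ((Scheme.Modules.pullback p).obj L) P) i
  let c1 : (Scheme.Modules.pullback g).obj (CohB1.tensorMod ((Scheme.Modules.pullback p).obj L) P) ≅
      CohB1.tensorMod ((Scheme.Modules.pullback p').obj L) ((Scheme.Modules.pullback g).obj P) :=
    K939.FlatDual.tensorIso g _ _ ≪≫ Ega2.Tens.mapTIso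
      ((Scheme.Modules.pullbackComp g p).app L ≪≫ (Scheme.Modules.pullbackCongr w).app L) (Iso.refl _)
  obtain ⟨b2⟩ := Groth.Agent.S0927.result q' ((Scheme.Modules.pullback T).obj ((Scheme.Modules.pullback p').obj L)) L'
    (K848.Rank.isFinLocFree_of_isInvertible hL') i
  obtain ⟨b3⟩ := nonempty_rpush_iso q' T w1 ((Scheme.Modules.pullback p').obj L) i
  obtain ⟨b4⟩ := Groth.Agent.S0033.result a a p' q' sq' L i
  exact ⟨b1 ≪≫ (Coh.Rpush q' i).mapIso (c1 ≪≫ e ≪≫ Groth.Agent.Fga.TensorList.tensorComm _ _) ≪≫ b2.symm ≪≫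
    Ega2.Tens.mapTIso (Iso.refl _) (b3.symm ≪≫ b4.symm)⟩

section Field

attribute [-instance] AlgebraicGeometry.specOverSpec

variable (k : Type u) [Field k]

/-- Coherent modules over the spectrum of a field are locally free. -/
theorem isFinLocFree_spec {N : (Spec (CommRingCat.of k)).Modules} (hN : Coh.IsCoh N) : FlatMod.IsFinLocFree N := by
  refine Divis.StalkMod.isFinLocFree_of_free_stalk hN fun x => ?_
  have hs : Subsingleton ↥(Spec (CommRingCat.of k)) := inferInstanceAs (Subsingleton (PrimeSpectrum k))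
  obtain rfl : x = genericPoint _ := Subsingleton.elim _ _
  exact (inferInstance : Module.Free (Spec (CommRingCat.of k)).functionField
    (N.presheaf.stalk (genericPoint (Spec (CommRingCat.of k)))))

/-- The Euler characteristic of a module with cohomology in one degree, through the structure morphism. -/
theorem euler_eq_of_conc {A : Scheme.{u}} [A.Over (Spec (CommRingCat.of k))]
    [IsProper (A ↘ Spec (CommRingCat.of k))] [HasInjectiveResolutions A.Modules] {L : A.Modules} (hL : Coh.IsCoh L)
    (i : ℕ) (hi : ∀ j, j ≠ i → Subsingleton (Coh.HH A L j)) :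
    Curv2.euler k A L = (-1) ^ i * Curv2.euler k (Spec (CommRingCat.of k))
      ((Coh.Rpush (A ↘ Spec (CommRingCat.of k)) i).obj L) := by
  have hp : IsProper (Spec (CommRingCat.of k) ↘ Spec (CommRingCat.of k)) :=
    inferInstanceAs (IsProper (𝟙 (Spec (CommRingCat.of k))))
  have hz : ∀ j, j ≠ i → IsZero ((Coh.Rpush (A ↘ Spec (CommRingCat.of k)) j).obj L) := fun j hj =>
    CohqB.RelVan.isZero_Rpush _ L hL.1 j (hi j hj)
  have hc : ∀ j, Coh.IsCoh ((Coh.Rpush (A ↘ Spec (CommRingCat.of k)) j).obj L) := fun j =>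
    Groth.Agent.S0036.result (A ↘ Spec (CommRingCat.of k)) L hL j
  rw [VarietyA.LerayEuler.euler_eq_sum (A ↘ Spec (CommRingCat.of k)) k (Category.comp_id _) L (i + 1) (i + 1)
    (fun n => Groth.Agent.S0002.result k A L hL n) (fun n hn => hi n (by omega))
    (fun j n => Groth.Agent.S0002.result k _ _ (hc j) n)
    (fun j n hn => Krr.H463.SpecField.subsingleton_HH k _ n (by omega)) (fun j hj => hz j (by omega)),
    finsum_eq_single _ i]
  intro j hj
  rw [VarietyA.LerayEuler.euler_eq_zero_of_isZero k _ (hz j hj), mul_zero]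

/-- If the cohomology of `L` is concentrated in degree `i`, then `a^* R^i a_* L` is a sum of `|χ(L)|` copies of the
structure sheaf. -/
theorem isPw_cohom {A : Scheme.{u}} [A.Over (Spec (CommRingCat.of k))]
    [IsProper (A ↘ Spec (CommRingCat.of k))] [HasInjectiveResolutions A.Modules] {L : A.Modules} (hL : Coh.IsCoh L)
    (i : ℕ) (hi : ∀ j, j ≠ i → Subsingleton (Coh.HH A L j)) :
    IsPw (Coh.structureModule A) (Curv2.euler k A L).natAbs
      ((Scheme.Modules.pullback (A ↘ Spec (CommRingCat.of k))).obj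
        ((Coh.Rpush (A ↘ Spec (CommRingCat.of k)) i).obj L)) := by
  have hN : Coh.IsCoh ((Coh.Rpush (A ↘ Spec (CommRingCat.of k)) i).obj L) :=
    Groth.Agent.S0036.result (A ↘ Spec (CommRingCat.of k)) L hL i
  obtain ⟨m, -, e⟩ := Krr.H463.SpecField.exists_rank k (isFinLocFree_spec k hN)
  have h1 : (Curv2.euler k A L).natAbs = m := by
    rw [euler_eq_of_conc k hL i hi, Krr.H463.SpecField.euler_of_iso_free k m e, Int.natAbs_mul, Int.natAbs_pow]
    simp
  rw [h1]
  exact isPw_pullback_free _ e

end Field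

end K845.FMMod
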