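import Groth.Agent.AbVar.K845.SlopeCore
import Groth.Agent.AbVar.K845.FMMod
import Groth.Agent.AbDual.K732.Lam
import Groth.Agent.AbDual.K732.AV
import Groth.Agent.AbVar.K524.Index
import Groth.Agent.AbVar.K524.Chi
import Groth.Agent.AbVar.K516.HomFin
import Groth.Agent.S7859
import Groth.Agent.S1535
import Groth.Agent.Sga3.H794.ChevKer
import Groth.Prelude.Def_AbDual

/-!
# Slope stability of the transform of a nondegenerate invertible module

`main`: `k` algebraically closed, `A` an abelian variety with dual `(At, φ)`, `L` a nondegenerate invertible module with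
cohomology concentrated in degree `i`; given `χ(L)^2 = deg φ_L` and `χ(L^{-1})^2 = χ(L)^2`, the module
`R^i p_{2*}(p_1^*L ⊗ P)` is slope stable.
-/

set_option autoImplicit false
set_option linter.unusedSectionVars false
universe u
open CategoryTheory CategoryTheory.Limits MonoidalCategory CartesianMonoidalCategory MonObj GrpObj AlgebraicGeometry

namespace K845.Main

open Groth.Agent Groth.Agent.Grpsch Groth.Agent.Grpsch.PicGrp Groth.Agent.Grpsch.Cube Groth.Agent.Fga.RigGrp
open K845.FMMod K845.SumOf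

theorem finrank_const {X Y : Scheme.{u}} (q : X ⟶ Y) [IsFinite q] [Flat q]
    [LocallyOfFinitePresentation q] [PreconnectedSpace Y] (y y' : Y) : q.finrank y = q.finrank y' :=
  q.isLocallyConstant_finrank.apply_eq_of_preconnectedSpace y y'

variable {k : Type u} [Field k] [IsAlgClosed k]
    {A At : Over (Spec (CommRingCat.of k))} [GrpObj A] [IsProper A.hom] [Smooth A.hom] [GeometricallyConnected A.hom]
    [GrpObj At] [IsProper At.hom] [Smooth At.hom] [GeometricallyConnected At.hom]
    {φ : ∀ T : Over (Spec (CommRingCat.of k)), PicF.Cl (PicF.XT A.hom T) → (T ⟶ At)}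
    (hφ : AbDual.IsDualAV Scheme.fppfPrecoverage A At φ)

include hφ

/-- `φ_L` is finite for a nondegenerate class. -/
theorem isFinite_lam {c : Pic A.left} (hnd : K524.Index.ND c) : IsFinite (K732.Lam.lam φ c).left := by
  have hgi := K732.AV.geomInt A
  have hm := K732.Lam.isMonHom_lam hφ c
  have hp : IsProper (K732.Lam.lam φ c).left := by
    have : IsProper ((K732.Lam.lam φ c).left ≫ At.hom) := by rw [Over.w]; infer_instance
    exact IsProper.of_comp _ At.hom
  refine Groth.Agent.Sga3.H794.ChevKer.isFinite_of_finite_ker _ (Set.Finite.subset hnd fun x hx => ?_)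
  exact K732.Lam.phi_eq_one_of_comp hφ c hx

/-- The isomorphism of `K845.FMMod.nonempty_main` for an invertible module on an abelian variety. -/
theorem nonempty_pull {P : (pullback A.hom At.hom).Modules} (hP : PicF.IsInvertible P)
    (hPξ : AbDual.IsPoincareCl A At φ (PicF.cl P))
    {L : A.left.Modules} (hL : PicF.IsInvertible L) {L' : A.left.Modules} (hL' : PicF.IsInvertible L')
    (hLL : PicGrp.mk L' hL' = (PicGrp.mk L hL)⁻¹) [Flat (K732.Lam.lam φ (PicGrp.mk L hL)).left]
    [HasInjectiveResolutions (pullback A.hom At.hom).Modules] [HasInjectiveResolutions A.left.Modules] (i : ℕ) :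
    Nonempty ((Scheme.Modules.pullback (K732.Lam.lam φ (PicGrp.mk L hL)).left).obj
        ((Coh.Rpush (pullback.snd A.hom At.hom) i).obj
          (CohB1.tensorMod ((Scheme.Modules.pullback (pullback.fst A.hom At.hom)).obj L) P)) ≅
      CohB1.tensorMod L' ((Scheme.Modules.pullback A.hom).obj ((Coh.Rpush A.hom i).obj L))) := by
  have hgi := K732.AV.geomInt A
  obtain ⟨ζ, h1, h2, h3, h4⟩ := K732.AV.exists_of_isPoincareCl hPξ
  have eζ : ζ = PicGrp.mk P hP := Groth.Agent.Fga.RigGrp.toCl_injective h4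
  subst eζ
  have h5 := K732.Dual.eq_pull_poinc hφ (K732.CubeSec.bijective_XTproj A.hom) h1 h2 h3
    (K732.Lam.mumCl_mem_pz (PicGrp.mk L hL)) (K732.Lam.mumCl_mem_rg (PicGrp.mk L hL))
  let f : A ⟶ At := K732.Lam.lam φ (PicGrp.mk L hL)
  let T : A ⊗ A ⟶ A ⊗ A := lift μ[A] (snd A A)
  have hμ : μ[A] = fst A A * snd A A := MonObj.mul_eq_mul A
  have iT : IsIso T := by
    refine ⟨lift (fst A A * (snd A A)⁻¹) (snd A A), ?_, ?_⟩
    · rw [comp_lift, MonObj.comp_mul, GrpObj.comp_inv, lift_fst, lift_snd, hμ, _root_.mul_assoc,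
        mul_inv_cancel, _root_.mul_one, lift_fst_snd]
    · rw [comp_lift, lift_snd, hμ, MonObj.comp_mul, lift_fst, lift_snd, _root_.mul_assoc, inv_mul_cancel,
        _root_.mul_one, lift_fst_snd]
  have iT' : IsIso T.left := inferInstanceAs (IsIso ((Over.forget _).map T))
  have w1 : T.left ≫ pullback.snd A.hom A.hom = pullback.snd A.hom A.hom :=
    congrArg (fun f => f.left) (lift_snd μ[A] (snd A A))
  have w2 : T.left ≫ pullback.fst A.hom A.hom = μ[A].left :=
    congrArg (fun f => f.left) (lift_fst μ[A] (snd A A))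
  have hpL := Groth.Agent.Fdesc.LocGen.isInvertible_pullback (pullback.fst A.hom A.hom) hL
  have hgP := Groth.Agent.Fdesc.LocGen.isInvertible_pullback (PicF.XTmap A.hom f) hP
  have hTL := Groth.Agent.Fdesc.LocGen.isInvertible_pullback T.left hpL
  have hqL := Groth.Agent.Fdesc.LocGen.isInvertible_pullback (pullback.snd A.hom A.hom) hL'
  have e : PicGrp.mk _ hpL * PicGrp.mk _ hgP =
      (show Pic (pullback A.hom A.hom) from PicGrp.mk _ hTL) * PicGrp.mk _ hqL := by
    rw [← pull_mk _ hL, ← pull_mk _ hP, ← pull_mk _ hpL, ← pull_mk _ hL, ← pull_mk _ hL', ← pull_comp,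
      w2, hLL, map_inv]
    have h6 : pull (PicF.XTmap A.hom f) (PicGrp.mk P hP) = K528.MumZero.mumCl A (PicGrp.mk L hL) := h5.symm
    rw [h6, K528.MumZero.mumCl]
    change pl (fst A A) (PicGrp.mk L hL) * (pl μ[A] (PicGrp.mk L hL) * (pl (fst A A) (PicGrp.mk L hL))⁻¹ *
      (pl (snd A A) (PicGrp.mk L hL))⁻¹) = pl μ[A] (PicGrp.mk L hL) * (pl (snd A A) (PicGrp.mk L hL))⁻¹
    rw [← _root_.mul_assoc, mul_comm (pl μ[A] (PicGrp.mk L hL)) _, mul_inv_cancel_left]
  obtain ⟨e'⟩ := (mk_eq_iff _ _).1 e
  have i1 : Flat f.left := ‹_›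
  exact K845.FMMod.nonempty_main (K732.PicZero.isPullback_XTmap f) (XTmap_fst A.hom f)
    (IsPullback.of_hasPullback A.hom A.hom) T.left w1 hP hL hL' e' i

theorem main (g : ℕ) (hg : topologicalKrullDim ↥A.left = g) (hgt : topologicalKrullDim ↥At.left = g)
    {P : (pullback A.hom At.hom).Modules} (hP : PicF.IsInvertible P)
    (hPξ : AbDual.IsPoincareCl A At φ (PicF.cl P))
    {L : A.left.Modules} (hL : PicF.IsInvertible L) (hnd : K524.Index.ND (PicGrp.mk L hL))
    (i : ℕ) (hi : ∀ j : ℕ, j ≠ i → Subsingleton (Coh.HH A.left L j))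
    (hRR : IsFinite (K732.Lam.lam φ (PicGrp.mk L hL)).left → ∀ d : ℕ,
      (∀ y, (K732.Lam.lam φ (PicGrp.mk L hL)).left.finrank y = d) → K524.Chi.chi (PicGrp.mk L hL) ^ 2 = d)
    (hinv : (K524.Chi.chi (PicGrp.mk L hL)⁻¹).natAbs = (K524.Chi.chi (PicGrp.mk L hL)).natAbs)
    [HasInjectiveResolutions (pullback A.hom At.hom).Modules]
    {H : At.left.Modules} (hH : CohB1.IsAmple H) :
    @ShStab.IsMuStable k _ At.left ⟨At.hom⟩ H
      ((Coh.Rpush (pullback.snd A.hom At.hom) i).obj
        (CohB1.tensorMod ((Scheme.Modules.pullback (pullback.fst A.hom At.hom)).obj L) P)) g := by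
  have hgi := K732.AV.geomInt A
  have hgit := K732.AV.geomInt At
  have iA : IsIntegral A.left := GeometricallyIntegral.isIntegral_of_subsingleton A.hom
  have iAt : IsIntegral At.left := GeometricallyIntegral.isIntegral_of_subsingleton At.hom
  have nA : IsLocallyNoetherian A.left := LocallyOfFiniteType.isLocallyNoetherian A.hom
  have nAt : IsLocallyNoetherian At.left := LocallyOfFiniteType.isLocallyNoetherian At.hom
  have nW : IsLocallyNoetherian (pullback A.hom At.hom) :=
    LocallyOfFiniteType.isLocallyNoetherian (pullback.snd A.hom At.hom)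
  have iinj : HasInjectiveResolutions A.left.Modules := Dcoh.DerSch.hasInjectiveResolutions _
  let c : Pic A.left := PicGrp.mk L hL
  have hm := K732.Lam.isMonHom_lam hφ c
  have hfin := isFinite_lam hφ hnd
  have hsurj := K516.HomFin.surjective_of_isFinite g hg hgt (K732.Lam.lam φ c)
  have hflat := K516.HomFin.flat_of_isFinite g hg hgt (K732.Lam.lam φ c)
  have hfp : LocallyOfFinitePresentation (K732.Lam.lam φ c).left :=
    LocallyOfFinitePresentation.iff_locallyOfFiniteType.2 inferInstance
  obtain ⟨y0⟩ : Nonempty At.left := inferInstance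
  let n := (K732.Lam.lam φ c).left.finrank y0
  have hn : ∀ y, (K732.Lam.lam φ c).left.finrank y = n := fun y => finrank_const _ y y0
  have hn1 : 1 ≤ n := Groth.Agent.S7859.finrank_pos (K732.Lam.lam φ c).left n hn
  have h1 := hRR hfin n hn
  obtain ⟨L', hL', hLL⟩ := exists_mk c⁻¹
  have hLc : Coh.IsCoh L := Groth.Agent.S2329.isCoh_of_isInvertible hL
  let _ : A.left.Over (Spec (CommRingCat.of k)) := ⟨A.hom⟩
  let _ : At.left.Over (Spec (CommRingCat.of k)) := ⟨At.hom⟩
  have pA : IsProper (A.left ↘ Spec (CommRingCat.of k)) := inferInstanceAs (IsProper A.hom)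
  have pAt : IsProper (At.left ↘ Spec (CommRingCat.of k)) := inferInstanceAs (IsProper At.hom)
  have sA : Smooth (A.left ↘ Spec (CommRingCat.of k)) := inferInstanceAs (Smooth A.hom)
  have h2 : K524.Chi.chi c = Curv2.euler k A.left L := K524.Chi.chi_mk hL
  have h3 : K524.Chi.chi c⁻¹ = Curv2.euler k A.left L' := by rw [hLL]; exact K524.Chi.chi_mk hL'
  have hpw0 := isPw_tensor L' (isPw_cohom k hLc i hi)
  obtain ⟨e⟩ := nonempty_pull hφ hP hPξ hL hL' hLL.symm i
  have hpw := hpw0.iso e
  have hE : Coh.IsCoh ((Coh.Rpush (pullback.snd A.hom At.hom) i).obj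
      (CohB1.tensorMod ((Scheme.Modules.pullback (pullback.fst A.hom At.hom)).obj L) P)) :=
    Groth.Agent.S0036.result _ _ (Groth.Agent.S2329.isCoh_of_isInvertible
      (Groth.Agent.Fdesc.LocGen.isInvertible_tensorMod
        (Groth.Agent.Fdesc.LocGen.isInvertible_pullback _ hL) hP)) i
  refine K845.SlopeCore.isMuStable k (K732.Lam.lam φ c).left (n := n)
    (fun F hF => Groth.Agent.S7859.result k A At (K732.Lam.lam φ c) n hn F hF) hg hgt
    (K848.Hull.isIntegrallyClosed_of_regular fun x => Groth.Agent.S1535.result k A.left x) hn1 hL' ?_ hE hpw hH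
  rw [← h3, ← h2, hinv, ← Int.natAbs_mul, ← pow_two, h1, Int.natAbs_natCast]

end K845.Main
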