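import Groth.Agent.Fga.TwistCoh
import Groth.Agent.CohqA.IdealMod
import Groth.Agent.CurvesB.HZero
import Groth.Agent.CycB.PureK
import Groth.Agent.Fdesc.LocGenTensor
import Groth.Agent.Fga.TensorList
import Groth.Prelude.Def_ClSub2

/-!
# Injective sections of inverses of ideals and of their powers
-/

set_option autoImplicit false
universe u
open CategoryTheory CategoryTheory.Limits AlgebraicGeometry Opposite TopologicalSpace

namespace K845.Sections

open Groth.Agent

variable {X : Scheme.{u}}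

theorem exists_mono_tensor {L : X.Modules} (hL : PicF.IsInvertible L) {M N : X.Modules} (f : M ⟶ N) [Mono f] :
    ∃ g : CohB1.tensorMod L M ⟶ CohB1.tensorMod L N, Mono g :=
  ⟨(DCoh.tensorBi.obj L).map f,
    (Groth.Agent.Fga.TwistCoh.shortExact_tensorBi hL (ShortComplex.mk f (cokernel.π f) (cokernel.condition f))
      { exact := ShortComplex.exact_cokernel f, mono_f := ‹_›, epi_g := inferInstance }).mono_f⟩

theorem exists_mono_sec {Θ I : X.Modules} (hΘ : PicF.IsInvertible Θ) (ι : I ⟶ Coh.structureModule X) [Mono ι]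
    (h : ClSub.IsInverseOf Θ I) : ∃ s : Coh.structureModule X ⟶ Θ, Mono s := by
  obtain ⟨e⟩ := h
  obtain ⟨g, hg⟩ := exists_mono_tensor hΘ ι
  exact ⟨e.inv ≫ g ≫ (Fga.TensorList.tensorUnit Θ).hom, inferInstance⟩

theorem exists_mono_step {Θ P : X.Modules} (hP : PicF.IsInvertible P) (h : ∃ s : Coh.structureModule X ⟶ Θ, Mono s)
    (h' : ∃ s : Coh.structureModule X ⟶ P, Mono s) : ∃ s : Coh.structureModule X ⟶ CohB1.tensorMod P Θ, Mono s := by
  obtain ⟨s, hs⟩ := h
  obtain ⟨t, ht⟩ := h'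
  obtain ⟨g, hg⟩ := exists_mono_tensor hP s
  exact ⟨t ≫ (Fga.TensorList.tensorUnit P).inv ≫ g, inferInstance⟩

theorem exists_mono_pow {Θ : X.Modules} (hΘ : PicF.IsInvertible Θ) (h : ∃ s : Coh.structureModule X ⟶ Θ, Mono s)
    (r : ℕ) : ∃ s : Coh.structureModule X ⟶ CohB1.tensorPow Θ r, Mono s := by
  induction r with
  | zero => exact ⟨𝟙 (Coh.structureModule X), (inferInstance : Mono (𝟙 (Coh.structureModule X)))⟩
  | succ r ih => exact exists_mono_step (Groth.Agent.Fdesc.LocGen.isInvertible_tensorPow hΘ r) h ih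

theorem not_subsingleton_HH [Nonempty X] {M : X.Modules} (s : Coh.structureModule X ⟶ M) [Mono s] :
    ¬ Subsingleton (Coh.HH X M 0) := by
  intro h
  have h1 : Subsingleton Γ(M, ⊤) := (CurvesB.HZero.equivAdd M).symm.toEquiv.subsingleton
  have h2 : Function.Injective (s.app ⊤) := CycB.PureK.app_injective_of_mono s ⊤
  have h3 : (1 : Γ(X, ⊤)) = 0 := h2 (Subsingleton.elim _ _)
  have h5 : Nonempty (⊤ : X.Opens) := ⟨⟨Classical.arbitrary X, trivial⟩⟩
  have h4 : Nontrivial Γ(X, ⊤) := Scheme.component_nontrivial X ⊤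
  exact one_ne_zero h3

end K845.Sections
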