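import Groth.Agent.AbVar.K845.SumOf
import Groth.Agent.ShStab.K848.PicOne
import Groth.Agent.Desc.FinLocFreeSections
import Groth.Agent.Sga67.FlatPre
import Groth.Agent.Sga5.AmpleFib
import Groth.Agent.CohqB.FinAmple
import Groth.Prelude.Def_ShStab

/-!
# A stability criterion by descent along an isogeny

Let `f : A ⟶ B` be finite, flat and surjective between integral proper `k`-schemes of dimension `g ≥ 1`, `A`
normal, with `χ(f^*F) = n χ(F)` for every coherent `F`, and let `E` be coherent on `B` with `f^*E` a sum of `d`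
copies of an invertible module `M` such that `n = d |χ(M)|`.  Then `E` is slope stable with respect
to every ample invertible module.
-/

set_option autoImplicit false
universe u
open CategoryTheory CategoryTheory.Limits AlgebraicGeometry Opposite TopologicalSpace Polynomial

namespace K845.SlopeCore

open Groth.Agent Groth.Agent.Fga.PicMon
open ShStab StabCat
open Groth.Agent.CycB.StalkExact Groth.Agent.Divis.StalkMod
open K848.Rank K848.Hull K848.Poly K848.HB K848.TF K848.Dim K848.Stab K848.Hartogs K845.SumOf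

variable (k : Type u) [Field k] {A B : Scheme.{u}} [A.Over (Spec (CommRingCat.of k))]
  [B.Over (Spec (CommRingCat.of k))] [IsProper (A ↘ Spec (CommRingCat.of k))]
  [IsProper (B ↘ Spec (CommRingCat.of k))] (f : A ⟶ B) {n : ℕ}
  (hχ : ∀ F : B.Modules, Coh.IsCoh F →
    Curv2.euler k A ((Scheme.Modules.pullback f).obj F) = (n : ℤ) * Curv2.euler k B F)

include hχ in
/-- Hilbert polynomials are multiplied by `n` under pull-back. -/
theorem hp_pullback {H : B.Modules} (hH : PicF.IsInvertible H) {F : B.Modules} (hF : Coh.IsCoh F) :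
    hp k ((Scheme.Modules.pullback f).obj H) ((Scheme.Modules.pullback f).obj F) = (n : ℚ) • hp k H F := by
  refine (eq_hp k fun m => ?_).symm
  have h1 := isHilbPoly_hp k hH hF m
  obtain ⟨e1⟩ := Groth.Agent.CohqB.FinAmple.nonempty_pullback_tensorPow f hH m
  let e2 : (Scheme.Modules.pullback f).obj (twist B H F m) ≅
      twist A ((Scheme.Modules.pullback f).obj H) ((Scheme.Modules.pullback f).obj F) m :=
    K939.FlatDual.tensorIso f F (CohB1.tensorPow H m) ≪≫ Groth.Agent.Ega2.Tens.mapTIso (Iso.refl _) e1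
  rw [← euler_iso k e2 (K939.FlatDual.isCoh_pullback f (isCoh_twist hH hF m)), hχ _ (isCoh_twist hH hF m),
    eval_smul, ← h1]
  push_cast
  rfl

variable [IsIntegral A] [IsIntegral B] {g : ℕ}

include hχ in
theorem rk_pullback [IsAffineHom f] {H : B.Modules} (hH : CohB1.IsAmple H) (hA : topologicalKrullDim A = g)
    (hB : topologicalKrullDim B = g) (hn : 0 < n) {F : B.Modules} (hF : Coh.IsCoh F) :
    rk ((Scheme.Modules.pullback f).obj F) = rk F := by
  have hH' := Groth.Agent.Sga5.AmpleFib.isAmple_pullback f hH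
  have h1 := alpha_rk k hH'.1 hA (K939.FlatDual.isCoh_pullback f hF)
  have h2 := alpha_rk k hH.1 hB hF
  have h3 := alpha_O_pos k hH hB
  have h4 := alpha_rk k hH'.1 hA (K939.FlatDual.isCoh_pullback f (isCoh_structureModule (Y := B)))
  have h5 : rk ((Scheme.Modules.pullback f).obj (Coh.structureModule B)) = 1 := by
    rw [rk_iso (K939.FlatDual.unitIso f), rk_structureModule]
  rw [h5, hp_pullback k f hχ hH.1 isCoh_structureModule, alpha_smul] at h4
  rw [hp_pullback k f hχ hH.1 hF, alpha_smul, h2] at h1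
  have hn' : (0 : ℚ) < n := by exact_mod_cast hn
  have h6 : (rk F : ℚ) * (n * alpha g (hp k H (Coh.structureModule B))) =
      (rk ((Scheme.Modules.pullback f).obj F) : ℚ) * (n * alpha g (hp k H (Coh.structureModule B))) := by
    rw [h4]
    linear_combination h1 - (rk F : ℚ) * h4
  have h7 := mul_right_cancel₀ (mul_pos hn' h3).ne' h6
  exact_mod_cast h7.symm

/-- coherent finite locally free modules are reflexive -/
theorem isReflexive_of_isFinLocFree {X : Scheme.{u}} [IsLocallyNoetherian X] {N : X.Modules} (hN : Coh.IsCoh N)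
    (h : FlatMod.IsFinLocFree N) : RefHull.IsReflexive N := by
  rw [RefHull.IsReflexive, K476.HomSh4.isIso_iff_stalk]
  exact fun x => K476.HomSh4.bijective_stalkMapₗ_bidualMap_of_free hN x (finite_free_stalk hN.1 h x).2

include hχ in
/-- **Stability by descent along an isogeny.** -/
theorem isMuStable [IsFinite f] [Flat f] [Surjective f] (hA : topologicalKrullDim A = g)
    (hB : topologicalKrullDim B = g) (hreg : ∀ x : A, IsIntegrallyClosed (A.presheaf.stalk x)) (hn : 0 < n)
    {M : A.Modules} (hM : PicF.IsInvertible M) {d : ℕ} (hd : n = d * (Curv2.euler k A M).natAbs)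
    {E : B.Modules} (hE : Coh.IsCoh E)
    (hpw : IsPw M d ((Scheme.Modules.pullback f).obj E)) {H : B.Modules} (hH : CohB1.IsAmple H) :
    IsMuStable k B H E g := by
  have := Groth.Agent.Fga.SnapperTwist.isNoetherian_of_proper k A
  have := Groth.Agent.Fga.SnapperTwist.isNoetherian_of_proper k B
  have hMc := isCoh_of_isInvertible hM
  have hMf := isFinLocFree_of_isInvertible hM
  have hMt : TorSh.IsTorsionFree M := isTorsionFree_of_isFinLocFree hMf
  have hH' := Groth.Agent.Sga5.AmpleFib.isAmple_pullback f hH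
  have hM1 : rk M = 1 := rk_structureModule_of_isInvertible hM
  obtain ⟨hd0, hχM⟩ : 0 < d ∧ 0 < (Curv2.euler k A M).natAbs := by
    rw [hd] at hn
    exact ⟨Nat.pos_of_ne_zero (by rintro rfl; simp at hn), Nat.pos_of_ne_zero (by intro h; simp [h] at hn)⟩
  have hfEc := hpw.isCoh hMc
  have hfEt : TorSh.IsTorsionFree ((Scheme.Modules.pullback f).obj E) :=
    isTorsionFree_of_isFinLocFree (hpw.isFinLocFree hMf)
  have hEr : rk E = d := by
    rw [← rk_pullback k f hχ hH hA hB hn hE, hpw.rk_eq hMc hM1]
  have hElf : FlatMod.IsFinLocFree E :=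
    Groth.Agent.Desc.FinLocFreeSections.isFinLocFree_of_pullback f E hE.1 (hpw.isFinLocFree hMf)
  have hEt : TorSh.IsTorsionFree E := isTorsionFree_of_isFinLocFree hElf
  refine K848.PicOne.isMuStable_of k hH hB hE hEt (by omega) ?_
  intro F ι hι hF hr0 hr1
  by_contra hcon
  push Not at hcon
  have hlim := Groth.Agent.Sga67.FlatPre.preservesFiniteLimits_pullback f
  have hmono : Mono ((Scheme.Modules.pullback f).map ι) := inferInstance
  have hGc : Coh.IsCoh ((Scheme.Modules.pullback f).obj F) := K939.FlatDual.isCoh_pullback f hF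
  have hGt : TorSh.IsTorsionFree ((Scheme.Modules.pullback f).obj F) :=
    isTorsionFree_of_mono ((Scheme.Modules.pullback f).map ι) hfEt
  have hGr : rk ((Scheme.Modules.pullback f).obj F) = rk F := rk_pullback k f hχ hH hA hB hn hF
  obtain ⟨N, φ, hN, hφ⟩ := exists_mono hMc hMt hM1 hGc hGt fun K j hj hK => by
    obtain ⟨c, hc⟩ := hpw.sep K (j ≫ (Scheme.Modules.pullback f).map ι) (mono_comp _ _) hK
    exact ⟨(Scheme.Modules.pullback f).map ι ≫ c, by simpa only [Category.assoc] using hc⟩
  rw [hGr] at hN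
  have hNc := hN.isCoh hMc
  have hNr : rk N = rk F := hN.rk_eq hMc hM1
  have hα : alpha (g - 1) (hp k ((Scheme.Modules.pullback f).obj H) N) ≤
      alpha (g - 1) (hp k ((Scheme.Modules.pullback f).obj H) ((Scheme.Modules.pullback f).obj F)) := by
    have h1 := hpw.hp_eq k hH'.1 hMc
    rw [hp_pullback k f hχ hH.1 hE] at h1
    have h2 := congrArg (alpha (g - 1)) h1
    rw [alpha_smul, alpha_smul] at h2
    rw [hN.hp_eq k hH'.1 hMc, hp_pullback k f hχ hH.1 hF, alpha_smul, alpha_smul]
    rw [hEr] at hcon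
    have hd' : (0 : ℚ) < d := by exact_mod_cast hd0
    have hn' : (0 : ℚ) < n := by exact_mod_cast hn
    have h3 := mul_le_mul_of_nonneg_left hcon hn'.le
    rw [← mul_le_mul_iff_of_pos_right hd']
    calc (rk F : ℚ) * alpha (g - 1) (hp k ((Scheme.Modules.pullback f).obj H) M) * d
        = rk F * (d * alpha (g - 1) (hp k ((Scheme.Modules.pullback f).obj H) M)) := by ring
      _ = n * (rk F * alpha (g - 1) (hp k H E)) := by rw [← h2]; ring
      _ ≤ n * (alpha (g - 1) (hp k H F) * d) := h3
      _ = _ := by ring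
  have hcod := codim_of_alpha_pred_eq k hH' hA φ hGc hNc (by rw [hGr, hNr]) hα
  obtain ⟨e⟩ := nonempty_ddual_iso hreg hGc hNc
    (isReflexive_of_isFinLocFree hNc (hN.isFinLocFree hMf)) φ hcod
  obtain ⟨e'⟩ := K939.FlatDual.nonempty_ddual (f := f) hF
  have hPc : Coh.IsCoh (RefHull.ddual F) := K476.HomSh4.isCoh_ddual hF
  have h1 := hχ _ hPc
  rw [euler_iso k (e' ≪≫ e) (K939.FlatDual.isCoh_pullback f hPc), hN.euler_eq k hMc] at h1
  have h2 := congrArg Int.natAbs h1
  rw [Int.natAbs_mul, Int.natAbs_mul, Int.natAbs_natCast, Int.natAbs_natCast] at h2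
  have h3 : rk F = d * (Curv2.euler k B (RefHull.ddual F)).natAbs := by
    apply Nat.eq_of_mul_eq_mul_right hχM
    rw [h2, hd]
    ring
  have h5 := Nat.le_of_dvd hr0 ⟨_, h3⟩
  omega

end K845.SlopeCore
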