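import Groth.Agent.ShStab.K848.FreeHp
import Groth.Agent.ShStab.K848.PicOne
import Groth.Agent.ShStab.K849.Reflex
import Groth.Agent.RefCh.K939.FlatDual
import Groth.Agent.SDiv.K476.HomSh5
import Groth.Agent.SDiv.K476.Ref1

/-!
# Finite sums of copies of an invertible module, projections and reflexive hulls

* `IsPw M s N`: `N` is a sum of `s` copies of `M` (as iterated biproducts);
* `exists_mono`: a coherent torsion free module `G` whose nonzero submodules admit nonzero maps to `M` embeds
  into a sum of `rk G` copies of `M`;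
* `nonempty_ddual_iso`: if `G ⟶ N` is mono with cokernel in codimension `≥ 2` and `N` is reflexive, then
  `G^** ≅ N`.
-/

set_option autoImplicit false
universe u
open CategoryTheory CategoryTheory.Limits AlgebraicGeometry Opposite TopologicalSpace Polynomial

namespace K845.SumOf

open Groth.Agent Groth.Agent.Fga.PicMon
open ShStab StabCat
open Groth.Agent.CycB.StalkExact Groth.Agent.Divis.StalkMod
open K848.Rank K848.Hull K848.Poly K848.HB K848.TF K848.Dim K848.Stab K848.Hartogs K848.PicOne

variable {X : Scheme.{u}}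

/-- `N` is a direct sum of `s` copies of `M`. -/
inductive IsPw (M : X.Modules) : ℕ → X.Modules → Prop
  | zero {N : X.Modules} (h : IsZero N) : IsPw M 0 N
  | succ {s : ℕ} {N N' : X.Modules} (h : IsPw M s N) (e : N' ≅ N ⊞ M) : IsPw M (s + 1) N'

namespace IsPw

variable {M : X.Modules}

theorem iso {s : ℕ} {N N' : X.Modules} (h : IsPw M s N) (e : N' ≅ N) : IsPw M s N' := by
  cases h with
  | zero h0 => exact zero (h0.of_iso e)
  | succ h0 e0 => exact succ h0 (e ≪≫ e0)

theorem isCoh [IsLocallyNoetherian X] (hM : Coh.IsCoh M) {s : ℕ} {N : X.Modules} (h : IsPw M s N) :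
    Coh.IsCoh N := by
  induction h with
  | zero h0 =>
    exact PerfA.CohSerre.isCoh_of_iso ((K848.FreeHp.isZero_freeMod_zero X).iso h0)
      (PerfA.CohSerre.isCoh_freeMod 0)
  | succ h0 e0 ih => exact PerfA.CohSerre.isCoh_of_iso e0.symm (Sga67.CohBasic.isCoh_biprod ih hM)

theorem isFinLocFree (hM : FlatMod.IsFinLocFree M) {s : ℕ} {N : X.Modules} (h : IsPw M s N) :
    FlatMod.IsFinLocFree N := by
  induction h with
  | zero h0 =>
    exact Dcoh.FinLocFree.isFinLocFree_of_iso ((K848.FreeHp.isZero_freeMod_zero X).iso h0)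
      (Dcoh.FinLocFree.isFinLocFree_freeMod X 0)
  | succ h0 e0 ih => exact Dcoh.FinLocFree.isFinLocFree_of_iso e0.symm (Dcoh.FinLocFree.isFinLocFree_biprod ih hM)

theorem rk_eq [IsIntegral X] [IsLocallyNoetherian X] (hM : Coh.IsCoh M) (hr : rk M = 1) {s : ℕ} {N : X.Modules} (h : IsPw M s N) :
    rk N = s := by
  induction h with
  | zero h0 =>
    have h1 := rk_iso ((K848.FreeHp.isZero_freeMod_zero X).iso h0)
    have h2 : Subsingleton ((FlatMod.freeMod X 0).presheaf.stalk (genericPoint X)) :=
      (Groth.Agent.VarietyB.ExactLoc.isZero_iff_stalk _).1 (K848.FreeHp.isZero_freeMod_zero X) _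
    rw [← h1]
    exact Module.finrank_zero_of_subsingleton
  | @succ s N N' h0 e0 ih =>
    have h1 := rk_iso e0
    have h2 := rk_shortExact (ShortComplex.Splitting.ofHasBinaryBiproduct N M).shortExact
      (Sga67.CohBasic.isCoh_biprod (h0.isCoh hM) hM)
    dsimp only at h2
    omega

theorem euler_eq (k : Type u) [Field k] [X.Over (Spec (CommRingCat.of k))]
    [IsProper (X ↘ Spec (CommRingCat.of k))] (hM : Coh.IsCoh M) {s : ℕ} {N : X.Modules} (h : IsPw M s N) :
    Curv2.euler k X N = s * Curv2.euler k X M := by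
  have := Groth.Agent.Fga.SnapperTwist.isNoetherian_of_proper k X
  induction h with
  | @zero N h0 =>
    let S : ShortComplex X.Modules := ShortComplex.mk (0 : N ⟶ N) (0 : N ⟶ N) (by simp)
    have hS : S.ShortExact :=
      { exact := ShortComplex.exact_of_isZero_X₂ _ h0
        mono_f := ⟨fun _ _ _ => h0.eq_of_tgt _ _⟩
        epi_g := ⟨fun _ _ _ => h0.eq_of_src _ _⟩ }
    have hNc : Coh.IsCoh N := (IsPw.zero h0 : IsPw M 0 N).isCoh hM
    have h3 := isAdd_euler k (X := X) S hS hNc hNc hNc
    dsimp only [S] at h3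
    have h4 : Curv2.euler k X N = 0 := by omega
    rw [h4]; simp
  | @succ s N N' h0 e0 ih =>
    have c3 := Sga67.CohBasic.isCoh_biprod (h0.isCoh hM) hM
    have h1 := euler_iso k e0.symm c3
    have h2 := isAdd_euler k _ (ShortComplex.Splitting.ofHasBinaryBiproduct N M).shortExact
      (h0.isCoh hM) c3 hM
    dsimp only at h2
    rw [← h1, h2, ih]
    push_cast
    ring

theorem hp_eq (k : Type u) [Field k] [X.Over (Spec (CommRingCat.of k))]
    [IsProper (X ↘ Spec (CommRingCat.of k))] {L : X.Modules} (hL : PicF.IsInvertible L) (hM : Coh.IsCoh M)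
    {s : ℕ} {N : X.Modules} (h : IsPw M s N) : hp k L N = (s : ℚ) • hp k L M := by
  have := Groth.Agent.Fga.SnapperTwist.isNoetherian_of_proper k X
  induction h with
  | zero h0 => rw [hp_isZero k hL h0]; simp
  | @succ s N N' h0 e0 ih =>
    have c3 := Sga67.CohBasic.isCoh_biprod (h0.isCoh hM) hM
    have h1 := hp_iso k hL c3 e0.symm
    have h2 := hp_add k hL (ShortComplex.Splitting.ofHasBinaryBiproduct N M).shortExact
      (h0.isCoh hM) c3 hM
    dsimp only at h2
    rw [h1, h2, ih]
    push_cast
    rw [add_smul, one_smul]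

/-- every nonzero submodule has a nonzero coordinate -/
theorem sep {s : ℕ} {N : X.Modules} (h : IsPw M s N) : ∀ (K : X.Modules) (j : K ⟶ N), Mono j → ¬ IsZero K →
    ∃ c : N ⟶ M, j ≫ c ≠ 0 := by
  induction h with
  | zero h0 =>
    intro K j hj hK
    exact absurd ((IsZero.iff_id_eq_zero _).2 (by rw [← cancel_mono j]; exact h0.eq_of_tgt _ _)) hK
  | @succ s N N' h0 e0 ih =>
    intro K j hj hK
    by_cases h1 : (j ≫ e0.hom) ≫ biprod.snd = 0
    · have h2 : (j ≫ e0.hom) = ((j ≫ e0.hom) ≫ biprod.fst) ≫ biprod.inl := by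
        apply biprod.hom_ext
        · simp
        · rw [h1]; simp
      have h3 : Mono ((j ≫ e0.hom) ≫ biprod.fst) := by
        have : Mono (((j ≫ e0.hom) ≫ biprod.fst) ≫ (biprod.inl : N ⟶ N ⊞ M)) := by
          rw [← h2]; infer_instance
        exact mono_of_mono _ (biprod.inl : N ⟶ N ⊞ M)
      obtain ⟨c, hc⟩ := ih K _ h3 hK
      exact ⟨e0.hom ≫ biprod.fst ≫ c, by simpa only [Category.assoc] using hc⟩
    · exact ⟨e0.hom ≫ biprod.snd, by simpa only [Category.assoc] using h1⟩

end IsPw

/-- a coherent torsion free module, all of whose nonzero submodules map nontrivially to `M`, embeds into a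
sum of copies of `M` of the same rank -/
theorem exists_mono [IsIntegral X] [IsLocallyNoetherian X] {M : X.Modules} (hM : Coh.IsCoh M)
    (hMt : TorSh.IsTorsionFree M) (hMr : rk M = 1) {G : X.Modules} (hG : Coh.IsCoh G) (hGt : TorSh.IsTorsionFree G)
    (hsep : ∀ (K : X.Modules) (j : K ⟶ G), Mono j → ¬ IsZero K → ∃ c : G ⟶ M, j ≫ c ≠ 0) :
    ∃ (N : X.Modules) (φ : G ⟶ N), IsPw M (rk G) N ∧ Mono φ := by
  have key : ∀ s : ℕ, s ≤ rk G → ∃ (N : X.Modules) (φ : G ⟶ N), IsPw M s N ∧ rk (kernel φ) + s = rk G := by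
    intro s
    induction s with
    | zero =>
      intro _
      refine ⟨FlatMod.freeMod X 0, 0, IsPw.zero (K848.FreeHp.isZero_freeMod_zero X), ?_⟩
      have e : kernel (0 : G ⟶ FlatMod.freeMod X 0) ≅ G := kernelZeroIsoSource
      rw [rk_iso e, add_zero]
    | succ s ih =>
      intro hs
      obtain ⟨N, φ, hN, hφ⟩ := ih (by omega)
      have hNc := hN.isCoh hM
      have hK : Coh.IsCoh (kernel φ) := PerfA.CohSerre.isCoh_kernel φ hG hNc.1
      have hK0 : ¬ IsZero (kernel φ) := not_isZero_of_rk (by omega)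
      obtain ⟨c, hc⟩ := hsep (kernel φ) (kernel.ι φ) inferInstance hK0
      refine ⟨N ⊞ M, biprod.lift φ c, IsPw.succ hN (Iso.refl _), ?_⟩
      let f : kernel φ ⟶ M := kernel.ι φ ≫ c
      have hf : f ≠ 0 := hc
      let e : kernel (biprod.lift φ c) ≅ kernel f :=
        { hom := kernel.lift f (kernel.lift φ (kernel.ι _) (by
              have h2 := kernel.condition (biprod.lift φ c)
              have h3 : biprod.lift φ c ≫ biprod.fst = φ := biprod.lift_fst φ c
              calc kernel.ι (biprod.lift φ c) ≫ φ = kernel.ι (biprod.lift φ c) ≫ biprod.lift φ c ≫ biprod.fst := by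
                    rw [h3]
                _ = 0 := by rw [← Category.assoc, h2, Limits.zero_comp])) (by
              have h2 := kernel.condition (biprod.lift φ c)
              have h3 : biprod.lift φ c ≫ biprod.snd = c := biprod.lift_snd φ c
              dsimp only [f]
              rw [← Category.assoc, kernel.lift_ι]
              calc kernel.ι (biprod.lift φ c) ≫ c = kernel.ι (biprod.lift φ c) ≫ biprod.lift φ c ≫ biprod.snd := by
                    rw [h3]
                _ = 0 := by rw [← Category.assoc, h2, Limits.zero_comp])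
          inv := kernel.lift _ (kernel.ι f ≫ kernel.ι φ) (by
              apply biprod.hom_ext
              · simp
              · have := kernel.condition f
                simpa [f] using this)
          hom_inv_id := by
            rw [← cancel_mono (kernel.ι _)]
            simp
          inv_hom_id := by
            rw [← cancel_mono (kernel.ι _), ← cancel_mono (kernel.ι _)]
            simp }
      rw [rk_iso e]
      have hKf : Coh.IsCoh (kernel f) := PerfA.CohSerre.isCoh_kernel f hK hM.1
      have hJ : Coh.IsCoh (cokernel (kernel.ι f)) := PerfA.CohSerre.isCoh_cokernel _ hKf.1 hK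
      have hS : (ShortComplex.mk (kernel.ι f) (cokernel.π (kernel.ι f)) (cokernel.condition _)).ShortExact :=
        { exact := ShortComplex.exact_cokernel _, mono_f := inferInstance, epi_g := inferInstance }
      let g : cokernel (kernel.ι f) ⟶ M := Abelian.factorThruCoimage f
      have hg : cokernel.π (kernel.ι f) ≫ g = f := Abelian.coimage.fac f
      have hgm : Mono g := inferInstanceAs (Mono (Abelian.factorThruCoimage f))
      have hr1 := rk_shortExact hS hK
      dsimp only at hr1
      have hJ1 : rk (cokernel (kernel.ι f)) ≤ 1 := by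
        have := rk_le_of_mono g hM
        rwa [hMr] at this
      have hJ0 : rk (cokernel (kernel.ι f)) ≠ 0 := by
        refine rk_ne_zero g hJ hMt fun h0 => hf ?_
        rw [← hg, h0.eq_of_src g 0, Limits.comp_zero]
      omega
  obtain ⟨N, φ, hN, hφ⟩ := key (rk G) le_rfl
  refine ⟨N, φ, hN, ?_⟩
  have hNc := hN.isCoh hM
  have hK : Coh.IsCoh (kernel φ) := PerfA.CohSerre.isCoh_kernel φ hG hNc.1
  have h0 : IsZero (kernel φ) := isZero_of_rk hK (isTorsionFree_of_mono (kernel.ι φ) hGt) (by omega)
  exact Preadditive.mono_of_isZero_kernel φ h0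

/-- coherent reflexive modules that agree on a big open are isomorphic -/
theorem nonempty_iso_of_big [IsIntegral X] [IsLocallyNoetherian X]
    (hn : ∀ x : X, IsIntegrallyClosed (X.presheaf.stalk x)) {U : X.Opens} (hU : Big U) {F G : X.Modules}
    (hF : Coh.IsCoh F) (hFr : RefHull.IsReflexive F) (hG : Coh.IsCoh G) (hGr : RefHull.IsReflexive G)
    (e : (Scheme.Modules.restrictFunctor U.ι).obj F ≅ (Scheme.Modules.restrictFunctor U.ι).obj G) :
    Nonempty (F ≅ G) := by
  have hFu := K849.Reflex.isIso_unit hn hU hF hFr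
  have hGu := K849.Reflex.isIso_unit hn hU hG hGr
  obtain ⟨φ, hφ⟩ := exists_map_eq_of_unit (Scheme.Modules.restrictAdjunction U.ι) e.hom
  obtain ⟨ψ, hψ⟩ := exists_map_eq_of_unit (Scheme.Modules.restrictAdjunction U.ι) e.inv
  refine ⟨⟨φ, ψ, ?_, ?_⟩⟩
  · apply map_injective_of_unit (Scheme.Modules.restrictAdjunction U.ι)
    rw [Functor.map_comp, hφ, hψ, e.hom_inv_id, CategoryTheory.Functor.map_id]
  · apply map_injective_of_unit (Scheme.Modules.restrictAdjunction U.ι)
    rw [Functor.map_comp, hφ, hψ, e.inv_hom_id, CategoryTheory.Functor.map_id]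

/-- the reflexive hull along a mono with cokernel in codimension `≥ 2` -/
theorem nonempty_ddual_iso [IsIntegral X] [IsLocallyNoetherian X]
    (hn : ∀ x : X, IsIntegrallyClosed (X.presheaf.stalk x)) {G N : X.Modules}
    (hG : Coh.IsCoh G) (hN : Coh.IsCoh N) (hNr : RefHull.IsReflexive N) (φ : G ⟶ N) [Mono φ]
    (h : ∀ x ∈ CohB1.support (cokernel φ), (2 : WithBot ℕ∞) ≤ ringKrullDim (X.presheaf.stalk x)) :
    Nonempty (RefHull.ddual G ≅ N) := by
  have hc : Coh.IsCoh (cokernel φ) := PerfA.CohSerre.isCoh_cokernel φ hG.1 hN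
  have hcl : IsClosed (CohB1.support (cokernel φ)) := Groth.Agent.Ega3B.Devissage.isClosed_support hc
  let U : X.Opens := ⟨(CohB1.support (cokernel φ))ᶜ, hcl.isOpen_compl⟩
  have hBig : Big U := fun x hx => h x (by
    by_contra hne
    exact hx hne)
  have hiso : IsIso ((Scheme.Modules.restrictFunctor U.ι).map φ) := isIso_restrict_of_stalk φ fun x hx =>
    ⟨stalkLin_injective φ x, (not_mem_support_cokernel_iff φ x).1 hx⟩
  have e1 : (RefHull.dual G).restrict U.ι ≅ RefHull.dual (G.restrict U.ι) := K476.HomSh5.restrictDual U.ι G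
  have e2 : (RefHull.dual N).restrict U.ι ≅ RefHull.dual (N.restrict U.ι) := K476.HomSh5.restrictDual U.ι N
  have e3 : G.restrict U.ι ≅ N.restrict U.ι := asIso ((Scheme.Modules.restrictFunctor U.ι).map φ)
  have e4 : RefHull.dual (N.restrict U.ι) ≅ RefHull.dual (G.restrict U.ι) := K476.HomSh1.dualIso e3.symm
  obtain ⟨e5⟩ := nonempty_iso_of_big hn hBig (K476.HomSh4.isCoh_dual hN) (K476.Ref1.isReflexive_dual hN)
    (K476.HomSh4.isCoh_dual hG) (K476.Ref1.isReflexive_dual hG) (e2 ≪≫ e4 ≪≫ e1.symm)
  have h1 : IsIso (RefHull.bidualMap N) := hNr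
  exact ⟨K476.HomSh1.dualIso e5.symm ≪≫ (asIso (RefHull.bidualMap N)).symm⟩

end K845.SumOf
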