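import Groth.Agent.AbVar.K845.Main
import Groth.Agent.AbVar.K845.Sections
import Groth.Agent.AbVar.K528.MumZero
import Groth.Prelude.Def_Jac

/-!
# The transform of powers of a principal polarisation

`main`: `J` an abelian variety which is its own dual through `φ` so that `φ_Θ = 1`, `Θ` an inverse of an ideal,
`r ≥ 1`; the transform of `Θ^r` is slope stable.
-/

set_option autoImplicit false
set_option linter.unusedSectionVars false
universe u
open CategoryTheory CategoryTheory.Limits MonoidalCategory CartesianMonoidalCategory MonObj GrpObj AlgebraicGeometry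

namespace K845.Theta

open Groth.Agent Groth.Agent.Grpsch Groth.Agent.Grpsch.PicGrp Groth.Agent.Fga.RigGrp Groth.Agent.Grpsch.Cube
open K732.Cov K732.PicZero K732.RigSheaf K732.Dual K732.CubeSec K732.Transp K732.Prim K732.Bidual
open K528.MumZero (mumCl)

variable {k : Type u} [Field k] {A At : Over (Spec (CommRingCat.of k))} [GrpObj A] [IsProper A.hom] [Smooth A.hom]
    [GeometricallyConnected A.hom] [GrpObj At]
    {φ : ∀ T : Over (Spec (CommRingCat.of k)), PicF.Cl (PicF.XT A.hom T) → (T ⟶ At)}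
    (hφ : AbDual.IsDualAV Scheme.fppfPrecoverage A At φ)

include hφ in
theorem comp_lam_eq_one (c : Pic A.left) (x : 𝟙_ (Over (Spec (CommRingCat.of k))) ⟶ A)
    (h : K506.Transl.phi c x = 1) : x ≫ K732.Lam.lam φ c = 1 := by
  have h1 : pull (PicF.XTmap A.hom x) (mumCl A c) = 1 := by
    refine ext_ev fun W a g ↦ ?_
    rw [ev_XTmap, K732.Lam.ev_mumCl, map_one]
    have e2 : pl (g ≫ x) c = 1 := by
      rw [toUnit_unique g (toUnit W)]
      exact K518.Phi.pl_const (T := W) x c
    have e3 : a * (g ≫ x) = a ≫ K506.Transl.tr x := by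
      rw [MonObj.comp_mul, Category.comp_id, toUnit_unique g (a ≫ toUnit A), Category.assoc]
    rw [e3, e2, inv_one, _root_.mul_one, Groth.Agent.Grpsch.Cube.pl_comp, ← map_inv, ← map_mul]
    have h2 : pl (K506.Transl.tr x) c * c⁻¹ = 1 := h
    rw [h2, map_one]
  rw [K732.Lam.comp_lam hφ, h1, cm_one hφ]

omit [IsProper A.hom] [Smooth A.hom] [GeometricallyConnected A.hom] in
theorem lam_of_isLambda {M : A.left.Modules} (hM : PicF.IsInvertible M) {lm : A ⟶ At}
    (h : AgPol.IsLambda A At φ M lm) : lm = K732.Lam.lam φ (mk M hM) := by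
  obtain ⟨N, hN, hs, rfl⟩ := h
  rw [K732.Lam.lam, cm, ← K528.MumZero.mk_eq_mumCl A hM hN hs]
  rfl

variable [IsAlgClosed k] {J : Over (Spec (CommRingCat.of k))} [GrpObj J] [IsProper J.hom] [Smooth J.hom]
    [GeometricallyConnected J.hom] {φJ : AgPol.DualMap J J} {ΘJ : J.left.Modules}

theorem nd (hsd : Jac.IsSelfDual Scheme.fppfPrecoverage J φJ ΘJ) (hΘ : PicF.IsInvertible ΘJ) :
    K524.Index.ND (mk ΘJ hΘ) := by
  refine (Set.finite_singleton (1 : 𝟙_ (Over (Spec (CommRingCat.of k))) ⟶ J)).subset fun x hx => ?_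
  have h := comp_lam_eq_one hsd.1 _ x hx
  rwa [← lam_of_isLambda hΘ hsd.2, Category.comp_id] at h

theorem main (g : ℕ) (hg : topologicalKrullDim ↥J.left = g) (r : ℕ) (hr : 1 ≤ r)
    (hΘ : PicF.IsInvertible ΘJ) {I : J.left.IdealSheafData} (hΘI : ClSub.IsInverseOf ΘJ (ClSub.idealMod I))
    (hsd : Jac.IsSelfDual Scheme.fppfPrecoverage J φJ ΘJ)
    (P : (pullback J.hom J.hom).Modules) (hP : PicF.IsInvertible P) (hPP : AbDual.IsPoincareCl J J φJ (PicF.cl P))
    [HasInjectiveResolutions (pullback J.hom J.hom).Modules]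
    (hRR : ∀ c : Pic J.left, IsFinite (K732.Lam.lam φJ c).left → ∀ d : ℕ,
      (∀ y, (K732.Lam.lam φJ c).left.finrank y = d) → K524.Chi.chi c ^ 2 = d)
    (hinv : ∀ c : Pic J.left, (K524.Chi.chi c⁻¹).natAbs = (K524.Chi.chi c).natAbs)
    (H : J.left.Modules) (hH : CohB1.IsAmple H) :
    @ShStab.IsMuStable k _ J.left ⟨J.hom⟩ H
      ((Coh.Rpush (pullback.snd J.hom J.hom) 0).obj
        (CohB1.tensorMod ((Scheme.Modules.pullback (pullback.fst J.hom J.hom)).obj (CohB1.tensorPow ΘJ r)) P)) g := by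
  have hgi := K732.AV.geomInt J
  have iJ : IsIntegral J.left := GeometricallyIntegral.isIntegral_of_subsingleton J.hom
  have hL := Groth.Agent.Fdesc.LocGen.isInvertible_tensorPow hΘ r
  have hc : mk (CohB1.tensorPow ΘJ r) hL = mk ΘJ hΘ ^ r := mk_tensorPow hΘ r
  have hnd : K524.Index.ND (mk (CohB1.tensorPow ΘJ r) hL) := by
    rw [hc]
    exact (nd hsd hΘ).pow hr
  obtain ⟨i, -, hi, -⟩ := hnd.exists_idx g hg
  rw [K524.Index.hasIdx_mk] at hi
  have h1 : Mono (ClSub.idealModι I) := CohqA.IdealMod.mono_idealModι I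
  obtain ⟨s, hs⟩ := K845.Sections.exists_mono_pow hΘ (K845.Sections.exists_mono_sec hΘ (ClSub.idealModι I) hΘI) r
  have h2 := K845.Sections.not_subsingleton_HH s
  obtain rfl : i = 0 := by
    by_contra hne
    exact h2 (hi.1 0 (Ne.symm hne))
  exact K845.Main.main hsd.1 g hg hg hP hPP hL hnd 0 hi.1 (hRR _) (hinv _) hH

end K845.Theta
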